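import Groth.Agent.AgPol.K814.MumHom
import Groth.Agent.AbVar.K512.PhiSurj
import Groth.Agent.AbVar.K518.Phi
import Groth.Agent.AbDual.K732.Transp

/-!
# The homomorphism attached to a class: transposes, translations, and when two classes have the same one
-/

set_option autoImplicit false
set_option linter.unusedSectionVars false
universe u

open CategoryTheory Limits MonoidalCategory CartesianMonoidalCategory AlgebraicGeometry
open scoped MonObj

namespace K438.LamTrans

open Groth.Agent.Grpsch.PicGrp Groth.Agent.Grpsch.Cube Groth.Agent.Fga.RigGrp K732.PicZero K732.Prim K732.Dual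
  K732.CubeSec K528.MumZero K732.BC K814.MumHom K518.Phi

section gen

variable {S : Scheme.{u}} {A At B Bt : Over S} [GrpObj A] [GrpObj B]

/-- The Mumford class of a pull back. -/
theorem pull_bcMap_mumCl (f : A ⟶ B) [IsMonHom f] (c : Pic B.left) :
    pull (PicF.XTmap A.hom f) (pull (AbDual.bcMap f B) (mumCl B c)) = mumCl A (pull f.left c) := by
  refine ext_ev fun W a b => ?_
  rw [ev_XTmap, ev_bcMap, ev_mum, ev_mum, ← MonObj.mul_comp, Over.comp_left, Over.comp_left, Over.comp_left,
    pull_comp, pull_comp, pull_comp]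

variable [GrpObj At] [GrpObj Bt] [IsProper A.hom] [Flat A.hom]
  [LocallyOfFinitePresentation A.hom] [GeometricallyIntegral A.hom] [IsProper B.hom] [Flat B.hom]
  [LocallyOfFinitePresentation B.hom] [GeometricallyIntegral B.hom]
  {φA : ∀ T : Over S, PicF.Cl (PicF.XT A.hom T) → (T ⟶ At)}
  {φB : ∀ T : Over S, PicF.Cl (PicF.XT B.hom T) → (T ⟶ Bt)}
  (hA : AbDual.IsDualAV Scheme.fppfPrecoverage A At φA)

include hA in
/-- The homomorphism attached to a pull back. -/
theorem comp_hom_comp (f : A ⟶ B) [IsMonHom f] {ft : Bt ⟶ At} (hft : AbDual.IsTranspose f φA φB ft)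
    (c : Pic B.left) : f ≫ hom φB c ≫ ft = hom φA (pull f.left c) := by
  rw [hom, hom, ← hft.cm (mum_pz c), ← cm_pull hA f (pull_bcMap_mem f (mum_pz c)), pull_bcMap_mumCl]

end gen

section field

variable {k : Type u} [Field k] {A At : Over (Spec (CommRingCat.of k))} [GrpObj A] [GrpObj At] [IsProper A.hom]
  [GeometricallyIntegral A.hom] {φ : ∀ T : Over (Spec (CommRingCat.of k)), PicF.Cl (PicF.XT A.hom T) → (T ⟶ At)}

theorem ev_mum_eq (c : Pic A.left) {W : Over (Spec (CommRingCat.of k))} (a b : W ⟶ A) :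
    ev a b (mumCl A c) = K518.Phi.D c a b := pull_lift_mumCl A c a b

theorem mumCl_eq_iff {c d : Pic A.left} :
    mumCl A c = mumCl A d ↔ ∀ (W : Over (Spec (CommRingCat.of k))) (a b : W ⟶ A),
      K518.Phi.D c a b = K518.Phi.D d a b := by
  constructor
  · intro h W a b
    rw [← ev_mum_eq, ← ev_mum_eq, h]
  · intro h
    refine ext_ev fun W a b => ?_
    rw [ev_mum_eq, ev_mum_eq, h]

theorem rg_of (c : Pic A.left) : mumCl A c ∈ rg A A :=
  mum_mem_rg (pic_spec_local k _)

variable [IsAlgClosed k]

/-- The Mumford class is translation invariant. -/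
theorem mumCl_tr (c : Pic A.left) (x : Pt A) : mumCl A (pl (tr x) c) = mumCl A c := by
  rw [mumCl_eq_iff]
  intro W a b
  rw [pl_tr, D_mul_class]
  have h : K518.Phi.D (phi c x) a b = 1 := by
    rw [K518.Phi.D, pl_mul_of_inv (phi_mem_Inv c x)]
    rw [mul_comm (pl a (phi c x)), mul_inv_cancel_right, mul_inv_cancel]
  rw [h, _root_.one_mul]

/-- The attached homomorphism is translation invariant. -/
theorem hom_tr (c : Pic A.left) (x : Pt A) : hom φ (pl (tr x) c) = hom φ c := by
  rw [hom, hom, mumCl_tr]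

variable (hD : AbDual.IsDualAV Scheme.fppfPrecoverage A At φ)

include hD in
/-- Classes with the same attached homomorphism differ by an invariant class. -/
theorem inv_of_hom_eq {c d : Pic A.left} (h : hom φ c = hom φ d) : d * c⁻¹ ∈ Inv A := by
  have h1 : mumCl A c = mumCl A d :=
    cm_inj hD (bijective_XTproj A.hom) (mum_pz c) (mum_pz d) (rg_of c) (rg_of d) h
  rw [mumCl_eq_iff] at h1
  refine phi_eq_iff.1 fun x => ?_
  rw [← D_id_const, ← D_id_const, h1]

include hD in
theorem eq_one_of_mono {c : Pic A.left} [Mono (hom φ c)] {x : Pt A} (hx : pl (tr x) c = c) : x = 1 := by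
  have h1 : phi c x = 1 := by rw [phi, hx, mul_inv_cancel]
  have h2 : x ≫ hom φ c = 1 := by
    rw [comp_hom_eq_one_iff hD (pic_spec_local k _)]
    refine ext_ev fun W a g => ?_
    rw [ev_XTmap, ev_mum_eq, toUnit_unique g (toUnit W), D_const_right, h1, map_one, map_one]
  have h3 : (1 : Pt A) ≫ hom φ c = 1 := by
    rw [comp_hom_eq_one_iff hD (pic_spec_local k _)]
    refine ext_ev fun W a g => ?_
    rw [ev_XTmap, ev_mum_eq, MonObj.comp_one, D_one_right, map_one]
  rw [← cancel_mono (hom φ c), h2, h3]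

include hD in
/-- If `c` defines a monomorphism and `d` has the same attached homomorphism then `d` is a translate of `c`. -/
theorem exists_tr_of_hom_eq {c d : Pic A.left} [Mono (hom φ c)] (h : hom φ c = hom φ d) :
    ∃ x : Pt A, d = pl (tr x) c := by
  have h1 := mem_Inv_iff.1 (inv_of_hom_eq hD h)
  have h2 : Set.Finite {x : 𝟙_ (Over (Spec (CommRingCat.of k))) ⟶ A | pl (tr x) c = c} :=
    (Set.finite_singleton (1 : Pt A)).subset fun x hx => eq_one_of_mono hD hx
  obtain ⟨x, hx⟩ := K512.PhiSurj.exists_eq c (d * c⁻¹) h2 h1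
  refine ⟨x, ?_⟩
  refine Eq.trans ?_ hx.symm
  rw [mul_comm d, mul_inv_cancel_left]

end field

end K438.LamTrans
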