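import Groth.Agent.JacVar.K531.TorMain
import Groth.Agent.AbDual.K732.Transp
import Groth.Agent.VarietyB.HHPush
import Groth.Agent.CurvesA.HHMap
import Groth.Agent.FormalA.PullbackQC
import Groth.Agent.Ega2.QCohLocal

/-!
# Transport of the Jacobian along an isomorphism of curves
-/

set_option autoImplicit false
universe u
open CategoryTheory CategoryTheory.Limits AlgebraicGeometry MonObj MonoidalCategory CartesianMonoidalCategory

namespace K438.JacTrans

open Groth.Agent Groth.Agent.Grpsch.PicGrp Groth.Agent.Fga.RigGrp Groth.Agent.Fga.JacSum Groth.Agent.Fga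
open Groth.Agent.Fga.JacFactor Groth.Agent.Fga.JacSurj Groth.Agent.Picfga.ChiDef Groth.Agent.Sga7.H732.Hedge
open Groth.Agent.Fdesc.LocGen Groth.Agent.Sga7.H732 K532.UnitBase K532.CurvePic K532.CurvePts K532.Dict
open K732.PicZero K732.Transp

section coh

variable {k : Type u} [Field k] {X Y : Scheme.{u}} [X.Over (Spec (CommRingCat.of k))]
  [Y.Over (Spec (CommRingCat.of k))]

theorem isIso_unit {X Y : Scheme.{u}} (f : X ⟶ Y) [IsIso f] (M : Y.Modules) :
    IsIso ((Scheme.Modules.pullbackPushforwardAdjunction f).unit.app M) := by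
  let e : X.Modules ≌ Y.Modules :=
    CategoryTheory.Equivalence.mk (Scheme.Modules.pushforward f) (Scheme.Modules.pushforward (inv f))
      ((Scheme.Modules.pushforwardId X).symm ≪≫
        Scheme.Modules.pushforwardCongr (IsIso.hom_inv_id f).symm ≪≫
        (Scheme.Modules.pushforwardComp f (inv f)).symm)
      ((Scheme.Modules.pushforwardComp (inv f) f) ≪≫
        Scheme.Modules.pushforwardCongr (IsIso.inv_hom_id f) ≪≫ Scheme.Modules.pushforwardId Y)
  have : (Scheme.Modules.pushforward f).IsEquivalence := inferInstanceAs e.functor.IsEquivalence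
  have := (Scheme.Modules.pullbackPushforwardAdjunction f).isEquivalence_left_of_isEquivalence_right
  infer_instance

theorem finrank_HH_iso (f : X ⟶ Y) [IsIso f]
    (hf : f ≫ (Y ↘ Spec (CommRingCat.of k)) = X ↘ Spec (CommRingCat.of k))
    (M : Y.Modules) (hM : Coh.IsQCoh M) (i : ℕ) :
    Module.finrank k (Coh.HH X ((Scheme.Modules.pullback f).obj M) i) =
      Module.finrank k (Coh.HH Y M i) := by
  have := isIso_unit f M
  have e := (asIso ((Scheme.Modules.pullbackPushforwardAdjunction f).unit.app M)).symm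
  rw [← Groth.Agent.VarietyB.HHPush.finrank_HH_push f k hf _
    (Groth.Agent.FormalA.PullbackQC.isQCoh_pullback f _ hM) i]
  exact (Groth.Agent.CurvesA.HHMap.equivOver k e i).finrank_eq

theorem euler_pull (g : X ⟶ Y) [IsIso g] (hg : g ≫ (Y ↘ Spec (CommRingCat.of k)) = X ↘ Spec (CommRingCat.of k))
    {M : Y.Modules} (hM : PicF.IsInvertible M) :
    FGA.eulerCharLE k X ((Scheme.Modules.pullback g).obj M) 1 = FGA.eulerCharLE k Y M 1 := by
  unfold FGA.eulerCharLE
  refine Finset.sum_congr rfl fun i _ => ?_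
  rw [finrank_HH_iso g hg M (Ega2.QCohLocal.isQCoh_of_isInvertible hM) i]

theorem h_pull (g : X ⟶ Y) [IsIso g] (hg : g ≫ (Y ↘ Spec (CommRingCat.of k)) = X ↘ Spec (CommRingCat.of k))
    (i : ℕ) (c : Pic Y) : K532.CurvePic.h k X i (pull g c) = K532.CurvePic.h k Y i c := by
  obtain ⟨M, hM, rfl⟩ := exists_mk c
  rw [pull_mk, h_mk, h_mk]
  exact finrank_HH_iso g hg M (Ega2.QCohLocal.isQCoh_of_isInvertible hM) i

end coh

section jac

variable {k : Type u} [Field k] {C C' : Scheme.{u}} {f : C ⟶ Spec (CommRingCat.of k)}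
  {f' : C' ⟶ Spec (CommRingCat.of k)} (a : Over.mk f ≅ Over.mk f')

/-- The isomorphism `C_T ⟶ C'_T`. -/
noncomputable abbrev bm (T : Over (Spec (CommRingCat.of k))) : PicF.XT f T ⟶ PicF.XT f' T :=
  AbDual.bcMap a.hom T

theorem bm_hom_inv (T : Over (Spec (CommRingCat.of k))) : bm a T ≫ bm a.symm T = 𝟙 _ := by
  have h := bcMap_comp a.hom a.inv T
  rw [a.hom_inv_id, bcMap_id] at h
  exact h.symm

theorem bm_inv_hom (T : Over (Spec (CommRingCat.of k))) : bm a.symm T ≫ bm a T = 𝟙 _ := by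
  have h := bcMap_comp a.inv a.hom T
  rw [a.inv_hom_id, bcMap_id] at h
  exact h.symm

instance isIso_bm (T : Over (Spec (CommRingCat.of k))) : IsIso (bm a T) :=
  ⟨⟨bm a.symm T, bm_hom_inv a T, bm_inv_hom a T⟩⟩

theorem pull_bm_symm {T : Over (Spec (CommRingCat.of k))} (c : Pic (PicF.XT f T)) :
    pull (bm a T) (pull (bm a.symm T) c) = c := by
  rw [← pull_comp, bm_hom_inv, pull_id]

theorem pull_symm_bm {T : Over (Spec (CommRingCat.of k))} (c : Pic (PicF.XT f' T)) :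
    pull (bm a.symm T) (pull (bm a T) c) = c := by
  rw [← pull_comp, bm_inv_hom, pull_id]

theorem pull_bm_XTmap {T T' : Over (Spec (CommRingCat.of k))} (g : T' ⟶ T) (c : Pic (PicF.XT f' T)) :
    pull (bm a T') (pull (PicF.XTmap f' g) c) = pull (PicF.XTmap f g) (pull (bm a T) c) :=
  pull_bcMap_XTmap a.hom g c

theorem chiK_pull {K : Type u} [Field K] (t : Spec (CommRingCat.of K) ⟶ Spec (CommRingCat.of k))
    (c : Pic (PicF.XT f' (Over.mk t))) : chiK f t (pull (bm a (Over.mk t)) c) = chiK f' t c := by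
  obtain ⟨M, hM, rfl⟩ := exists_mk c
  let := overK f t
  let := overK f' t
  rw [pull_mk, chiK_mk, chiK_mk, chiM, chiM]
  exact euler_pull (k := K) (bm a (Over.mk t)) (bcMap_XTproj a.hom (Over.mk t)) hM

theorem chiAt_pull_bm {T : Over (Spec (CommRingCat.of k))} (τ : T.left) (c : Pic (PicF.XT f' T)) :
    chiAt f T τ (pull (bm a T) c) = chiAt f' T τ c := by
  rw [chiAt, chiAt, chiPt, chiPt, ← pull_bm_XTmap]
  exact chiK_pull a _ _

theorem deg_pull_bm [QuasiCompact f] [IsSeparated f] [QuasiCompact f'] [IsSeparated f']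
    {T : Over (Spec (CommRingCat.of k))} {c : Pic (PicF.XT f' T)}
    (hc : FGA.HasFibreDegreeZeroCl f' T (toCl c)) : FGA.HasFibreDegreeZeroCl f T (toCl (pull (bm a T) c)) := by
  rw [Abel.deg_iff] at hc ⊢
  intro τ
  rw [chiAt_pull_bm, hc, ← chiAt_pull_bm a, map_one]

variable {σ : Spec (CommRingCat.of k) ⟶ C} {hσ : σ ≫ f = 𝟙 (Spec (CommRingCat.of k))}
  {σ' : Spec (CommRingCat.of k) ⟶ C'} {hσ' : σ' ≫ f' = 𝟙 (Spec (CommRingCat.of k))}
  (hs : σ ≫ a.hom.left = σ')

include hs in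
theorem secT_bm (T : Over (Spec (CommRingCat.of k))) :
    PicF.secT f σ hσ T ≫ bm a T = PicF.secT f' σ' hσ' T := by
  apply pullback.hom_ext
  · rw [Category.assoc]
    refine (congrArg (PicF.secT f σ hσ T ≫ ·) (bcMap_fst a.hom T)).trans ?_
    refine (Category.assoc _ _ _).symm.trans ?_
    refine (congrArg (· ≫ a.hom.left) (secT_fst f σ hσ T)).trans ?_
    rw [Category.assoc, hs]
    exact (secT_fst f' σ' hσ' T).symm
  · rw [Category.assoc]
    refine (congrArg (PicF.secT f σ hσ T ≫ ·) (bcMap_XTproj a.hom T)).trans ?_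
    exact (secT_XTproj f σ hσ T).trans (secT_XTproj f' σ' hσ' T).symm

include hs in
theorem mem_bm {T : Over (Spec (CommRingCat.of k))} {c : Pic (PicF.XT f' T)} :
    pull (bm a T) c ∈ Rg f σ hσ T ↔ c ∈ Rg f' σ' hσ' T := by
  rw [mem_Rg, mem_Rg, ← pull_comp, secT_bm a hs]

include hs in
/-- Transport of the Jacobian. -/
theorem isJac_bm [QuasiCompact f] [IsSeparated f] [QuasiCompact f'] [IsSeparated f']
    {J : Over (Spec (CommRingCat.of k))} [GrpObj J] {ξ' : Pic (PicF.XT f' J)} (h' : IsJac f' σ' hσ' J ξ') :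
    IsJac f σ hσ J (pull (bm a J) ξ') where
  mem := (mem_bm a hs).2 h'.mem
  deg := deg_pull_bm a h'.deg
  mul g h := by rw [← pull_bm_XTmap, ← pull_bm_XTmap, ← pull_bm_XTmap, h'.mul, map_mul]
  univ T c hc hd := by
    have h1 : pull (bm a.symm T) c ∈ Rg f' σ' hσ' T := by
      rw [← mem_bm a hs (hσ := hσ), pull_bm_symm]
      exact hc
    obtain ⟨g, hg, hu⟩ := h'.univ T (pull (bm a.symm T) c) h1 (deg_pull_bm a.symm hd)
    refine ⟨g, ?_, fun g' hg' => hu g' ?_⟩
    · change pull (PicF.XTmap f g) (pull (bm a J) ξ') = c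
      rw [← pull_bm_XTmap, hg, pull_bm_symm]
    · change pull (PicF.XTmap f g') (pull (bm a J) ξ') = c at hg'
      rw [← hg', ← pull_bm_XTmap, pull_symm_bm]

theorem isMonHom_of_mul {G H : Over (Spec (CommRingCat.of k))} [GrpObj G] [GrpObj H] (e : G ⟶ H)
    (he : ∀ (W : Over (Spec (CommRingCat.of k))) (a b : W ⟶ G), (a * b) ≫ e = (a ≫ e) * (b ≫ e)) :
    IsMonHom e := by
  have h1 := he (G ⊗ G) (fst _ _) (snd _ _)
  have h2 := he (𝟙_ _) η[G] η[G]
  refine ⟨?_, ?_⟩
  · have h3 : (η[G] * η[G] : 𝟙_ (Over (Spec (CommRingCat.of k))) ⟶ G) = η[G] := by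
      rw [show (η[G] : 𝟙_ (Over (Spec (CommRingCat.of k))) ⟶ G) = 1 from by simp [Hom.one_def], _root_.mul_one]
    rw [h3] at h2
    have h4 := mul_eq_left.1 h2.symm
    rw [h4]
    simp [Hom.one_def]
  · rw [Hom.mul_def, Hom.mul_def] at h1
    simpa using h1

/-- Two Jacobians of the same pointed curve are isomorphic. -/
theorem exists_iso_isJac [QuasiCompact f] [IsSeparated f] {J₁ J₂ : Over (Spec (CommRingCat.of k))} [GrpObj J₁]
    [GrpObj J₂] {ξ₁ : Pic (PicF.XT f J₁)} {ξ₂ : Pic (PicF.XT f J₂)} (h₁ : IsJac f σ hσ J₁ ξ₁)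
    (h₂ : IsJac f σ hσ J₂ ξ₂) : ∃ e : J₁ ≅ J₂, IsMonHom e.hom ∧ pull (PicF.XTmap f e.hom) ξ₂ = ξ₁ := by
  obtain ⟨u, hu, -⟩ := h₂.univ J₁ ξ₁ h₁.mem h₁.deg
  obtain ⟨v, hv, -⟩ := h₁.univ J₂ ξ₂ h₂.mem h₂.deg
  have e1 : u ≫ v = 𝟙 J₁ := by
    apply Abel.cls_injective h₁
    rw [Abel.cls_apply, Abel.cls_apply, XTmap_comp, pull_comp, hv, hu, XTmap_id, pull_id]
  have e2 : v ≫ u = 𝟙 J₂ := by
    apply Abel.cls_injective h₂
    rw [Abel.cls_apply, Abel.cls_apply, XTmap_comp, pull_comp, hu, hv, XTmap_id, pull_id]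
  refine ⟨⟨u, v, e1, e2⟩, ?_, hu⟩
  refine isMonHom_of_mul _ fun W x y => ?_
  apply Abel.cls_injective h₂
  rw [map_mul]
  change pull (PicF.XTmap f ((x * y) ≫ u)) ξ₂ = pull (PicF.XTmap f (x ≫ u)) ξ₂ * pull (PicF.XTmap f (y ≫ u)) ξ₂
  rw [XTmap_comp, XTmap_comp, XTmap_comp, pull_comp, pull_comp, pull_comp, hu, h₁.mul]

end jac

end K438.JacTrans
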