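import Groth.Agent.GIT.K438.TorDir
import Groth.Agent.GIT.K610.Nodes

/-!
# Torelli in both directions for Jacobian families over a geometric point: `K610.Mg.NodeB`
-/

set_option autoImplicit false
set_option linter.style.haveILetI false
universe u
open CategoryTheory CategoryTheory.Limits AlgebraicGeometry MonoidalCategory CartesianMonoidalCategory
open scoped MonObj

namespace K438.NodeB

open Groth.Agent Groth.Agent.Grpsch.PicGrp K814.MumHom

theorem geometricallyConnected {X Y : Scheme.{u}} (f : X ⟶ Y) (hf : GeometricallyIrreducible f) :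
    GeometricallyConnected f := by
  refine ⟨fun K _ y Z fst snd h => ?_⟩
  have := hf.geometrically_irreducibleSpace y fst snd h
  infer_instance

theorem curve_props {Ω : Type u} [Field Ω] [IsAlgClosed Ω] {g : ℕ} {X : Scheme.{u}}
    {q : X ⟶ Spec (CommRingCat.of Ω)} (h : ModFun.IsCurveOfGenus g q) :
    topologicalKrullDim X = 1 ∧ (letI : X.Over (Spec (CommRingCat.of Ω)) := ⟨q⟩; Curv2.genus Ω X = g) :=
  h.2.2.2 Ω (𝟙 _) X (𝟙 X) q (IsPullback.of_horiz_isIso ⟨by simp⟩)

theorem nodeB : K610.Mg.NodeB.{u} := by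
  intro Z g hg2 Ω _ _ t X X' q q' hq hq' F F' hF hF' hJ hJ'
  letI := F.grp
  letI := F.grpt
  letI := F'.grp
  letI := F'.grpt
  obtain ⟨hA, hc, hct, hD, -, hdeg, hlev⟩ := hF
  obtain ⟨hA', hc', hct', hD', -, hdeg', hlev'⟩ := hF'
  obtain ⟨ψ, N, Θ, hjac, hN, hNd, hΘ, hlam⟩ := hJ
  obtain ⟨ψ', N', Θ', hjac', hN', hNd', hΘ', hlam'⟩ := hJ'
  letI : X.Over (Spec (CommRingCat.of Ω)) := ⟨q⟩
  letI : X'.Over (Spec (CommRingCat.of Ω)) := ⟨q'⟩
  have i1 : IsProper (X ↘ Spec (CommRingCat.of Ω)) := hq.2.1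
  have i2 : Smooth (X ↘ Spec (CommRingCat.of Ω)) := hq.1
  have i3 : GeometricallyConnected (X ↘ Spec (CommRingCat.of Ω)) := geometricallyConnected _ hq.2.2.1
  have i1' : IsProper (X' ↘ Spec (CommRingCat.of Ω)) := hq'.2.1
  have i2' : Smooth (X' ↘ Spec (CommRingCat.of Ω)) := hq'.1
  have i3' : GeometricallyConnected (X' ↘ Spec (CommRingCat.of Ω)) := geometricallyConnected _ hq'.2.2.1
  obtain ⟨hdim, hg⟩ := curve_props hq
  obtain ⟨hdim', hg'⟩ := curve_props hq'
  have j1 : Smooth F.X.hom := hA.smooth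
  have j1' : Smooth F'.X.hom := hA'.smooth
  have e1 : F.lam = hom F.φ (mk Θ hΘ.1) := (isLambda_iff F.φ hΘ.1 _).1 hlam
  have e1' : F'.lam = hom F'.φ (mk Θ' hΘ'.1) := (isLambda_iff F'.φ hΘ'.1 _).1 hlam'
  constructor
  · rintro ⟨e, he, et, het, heti, hetr, hl, -⟩
    have hiso : IsIso (hom F.φ (mk Θ hΘ.1)) := by
      rw [← e1]
      obtain ⟨h1, h2, h3, h4⟩ := hdeg
      have h5 : IsIso F.lam.left := by
        rw [Scheme.Hom.isIso_iff_finrank_eq]
        funext y
        rw [h4 y, one_pow]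
        rfl
      have h6 : IsIso ((Over.forget _).map F.lam) := h5
      exact isIso_of_reflects_iso F.lam (Over.forget _)
    rw [e1, e1'] at hl
    exact K438.TorBoth.curves_iso hdim hdim' hg hg' hg2 hjac hjac' hN hNd hN' hNd' hΘ hΘ' hD e hetr hiso hl
  · rintro ⟨a⟩
    obtain ⟨e, he, et, het, heti, hetr, hl⟩ := K438.TorBoth.exists_iso_of_curves_iso hdim hdim' hg hg' hg2 hjac hjac'
      hN hNd hN' hNd' hΘ hΘ' hD hD' a
    refine ⟨e, he, et, het, heti, hetr, ?_, fun i => ?_⟩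
    · rw [e1, e1']
      exact hl
    · have h1 := hlev.1 i
      have h2 := hlev'.1 i
      rw [pow_one] at h1 h2
      rw [h1, h2, MonObj.one_comp]

end K438.NodeB
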