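import Groth.Agent.GIT.K438.JacTrans
import Groth.Agent.GIT.K438.LamTrans
import Groth.Agent.GIT.K438.ZeroEq
import Groth.Agent.JacVar.K532.ThetaH0
import Groth.Agent.JacVar.K533.AbelAt

/-!
# Torelli in both directions, for the homomorphism attached to a theta line bundle
-/

set_option autoImplicit false
set_option linter.unusedSectionVars false
universe u
open CategoryTheory CategoryTheory.Limits AlgebraicGeometry MonoidalCategory CartesianMonoidalCategory
open TopologicalSpace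
open scoped MonObj

namespace K438.TorBoth

open Groth.Agent Groth.Agent.Grpsch.PicGrp Groth.Agent.Fga.RigGrp Groth.Agent.Sga7.H732.Hedge
open Groth.Agent.Sga7.H732 K532.UnitBase K532.CurvePic K532.CurvePts K532.Dict Groth.Agent.Fga.JacSum
open Groth.Agent.Fga.JacFactor K532.Setup K532.KPts K532.Theta1 Groth.Agent.Grpsch.Cube K532
open Groth.Agent.Divis.EffCartier K532.ThetaIdeal K532.ThetaAmple Groth.Agent.Fga
open K438.JacTrans K438.LamTrans K814.MumHom

section theta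

variable {k : Type u} [Field k] {C : Scheme.{u}} {f : C ⟶ Spec (CommRingCat.of k)}
  {J : Over (Spec (CommRingCat.of k))} [GrpObj J] {ψ : (ModFun.PicDeg f 0).Hom ⊤ J}

/-- The theta locus as a closed subset. -/
noncomputable abbrev thC (ψ : (ModFun.PicDeg f 0).Hom ⊤ J) (N : C.Modules) : Closeds J.left :=
  ⟨Jac.thetaLocus f 0 ψ N, isClosed_closure⟩

theorem isEff_theta {N : C.Modules} {Θ : J.left.Modules} (hΘ : Jac.IsThetaLB f 0 ψ N Θ) :
    BlowUp.IsEffCartierIdeal (Scheme.IdealSheafData.vanishingIdeal (thC ψ N)) := by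
  obtain ⟨-, hLI⟩ := id hΘ
  obtain ⟨e⟩ := id hLI
  exact Dix.IdealModCartier.isEffCartierIdeal_of_isInvertible (Fga.IntAdd.isInvertible_of_tensor e)

theorem mk_theta {N : C.Modules} {Θ : J.left.Modules} (hΘ : Jac.IsThetaLB f 0 ψ N Θ) :
    mk Θ hΘ.1 = (dcl _ (isEff_theta hΘ))⁻¹ :=
  Models.H65.PicDeg.mk_of_isInverseOf hΘ.1 _ hΘ.2

end theta

section closed

variable {k : Type u} [Field k]

theorem preimage_eq {X Y : Scheme.{u}} [X.Over (Spec (CommRingCat.of k))] [IsIntegral X] (g : X ⟶ Y) [IsIso g]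
    (t : X ⟶ X) [IsIso t] (Z : Closeds X) (Z' : Closeds Y)
    (hZ : BlowUp.IsEffCartierIdeal (Scheme.IdealSheafData.vanishingIdeal Z))
    (hZ' : BlowUp.IsEffCartierIdeal (Scheme.IdealSheafData.vanishingIdeal Z'))
    (hc : pull g (dcl _ hZ')⁻¹ = pull t (dcl _ hZ)⁻¹) (h0 : CurvePic.h k X 0 (pull t (dcl _ hZ)⁻¹) = 1) :
    Z'.preimage g.continuous = Z.preimage t.continuous := by
  have e1 := isEff_comap_flat hZ' g
  have e2 := isEff_comap_flat hZ t
  have h1 : (dcl _ e2)⁻¹ = pull t (dcl _ hZ)⁻¹ := by rw [map_inv, pull_dcl t hZ e2]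
  have h2 : (dcl _ e1)⁻¹ = pull t (dcl _ hZ)⁻¹ := by rw [← hc, map_inv, pull_dcl g hZ' e1]
  have h3 := K438.ZeroEq.zeroIdeal_eq h0 e1 e2 h2 h1
  rw [comap_vanishingIdeal_iso g (inv g) (IsIso.hom_inv_id g) (IsIso.inv_hom_id g),
    comap_vanishingIdeal_iso t (inv t) (IsIso.hom_inv_id t) (IsIso.inv_hom_id t)] at h3
  have h4 := congrArg (fun I => (I.support : Set X)) h3
  simp only [Scheme.IdealSheafData.coe_support_vanishingIdeal] at h4
  exact Closeds.ext h4

theorem pull_inv_dcl {X Y : Scheme.{u}} (g : X ⟶ Y) [IsIso g] (Z : Closeds X) (Z' : Closeds Y)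
    (hZ : BlowUp.IsEffCartierIdeal (Scheme.IdealSheafData.vanishingIdeal Z))
    (hZ' : BlowUp.IsEffCartierIdeal (Scheme.IdealSheafData.vanishingIdeal Z'))
    (h : Z'.preimage g.continuous = Z) : pull g (dcl _ hZ')⁻¹ = (dcl _ hZ)⁻¹ := by
  subst h
  have h1 := comap_vanishingIdeal_iso g (inv g) (IsIso.hom_inv_id g) (IsIso.inv_hom_id g) Z'
  have h2 : BlowUp.IsEffCartierIdeal ((Scheme.IdealSheafData.vanishingIdeal Z').comap g) := by rw [h1]; exact hZ
  rw [map_inv, pull_dcl g hZ' h2, dcl_congr h1 h2]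

end closed

section abel

variable {k : Type u} [Field k] {C : Scheme.{u}} {f : C ⟶ Spec (CommRingCat.of k)} [IsProper f]
  [SmoothOfRelativeDimension 1 f] {σ : Spec (CommRingCat.of k) ⟶ C} {hσ : σ ≫ f = 𝟙 (Spec (CommRingCat.of k))}
  {J : Over (Spec (CommRingCat.of k))} [GrpObj J]

theorem exists_isAbelJacobiAt (hX : Curve.IsSmoothProperCurve k C f) (hdim : topologicalKrullDim C = 1)
    (hσ : σ ≫ f = 𝟙 (Spec (CommRingCat.of k))) (ψ : (ModFun.PicDeg f 0).Hom ⊤ J) :
    ∃ j : Over.mk f ⟶ J, Jac.IsAbelJacobiAt f σ ψ j := by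
  have hdeg : FGA.HasFibreDegreeZeroCl f (Over.mk f)
      (toCl ((gcl f (Abel.idPt (f := f)))⁻¹ * gcl f (Pt.ofSection hσ (Over.mk f)))) := by
    have h1 := Abel.deg_acl (σ := σ) (hσ := hσ) hX (Abel.idPt (f := f))
    rw [Abel.deg_iff] at h1 ⊢
    intro τ
    have h2 := h1 τ
    rw [acl, Fine.chiAt_norm] at h2
    exact h2
  obtain ⟨L, hL, hcl⟩ := Fine.exists_family hdim _ hdeg
  refine ⟨ψ.app (Over.mk f) L trivial hL, trivial, L, hL, ⟨((Fine.ok_iff f hdim 0 _ L).1 hL).1, ?_⟩, rfl⟩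
  have h1 : Fine.cls f hdim hL * gcl f (Abel.idPt (f := f)) =
      pull (pullback.fst f f) (dcl σ.ker (isEff_ker f σ hσ)) := by
    rw [hcl, pull_fst_ker σ hσ]
    rw [mul_comm, mul_inv_cancel_left]
  have h2 : gcl f (Abel.idPt (f := f)) = mk (ClSub.idealMod (pullback.diagonal f).ker)
      (Dix.IdealModCartier.isInvertible_idealMod (isEff_secGraph f (Abel.idPt (f := f)))) := rfl
  rw [h2, Fine.cls, mk_mul_mk, dcl, pull_mk, mk_eq_iff] at h1
  exact h1

end abel

section deg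

variable {k : Type u} [Field k] {X Y : Scheme.{u}} [X.Over (Spec (CommRingCat.of k))]
  [Y.Over (Spec (CommRingCat.of k))]

theorem gen_pull (g : X ⟶ Y) [IsIso g] (hg : g ≫ (Y ↘ Spec (CommRingCat.of k)) = X ↘ Spec (CommRingCat.of k)) :
    gen k X = gen k Y := by
  have h1 := h_pull g hg 1 (1 : Pic Y)
  rw [map_one] at h1
  exact h1

theorem deg_pull (hX : IsCurve k X) (hY : IsCurve k Y) (g : X ⟶ Y) [IsIso g]
    (hg : g ≫ (Y ↘ Spec (CommRingCat.of k)) = X ↘ Spec (CommRingCat.of k)) (c : Pic Y) :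
    deg k X (pull g c) = deg k Y c := by
  have h1 := rr hX (pull g c)
  have h2 := rr hY c
  rw [h_pull g hg, h_pull g hg, gen_pull g hg] at h1
  linarith

end deg

end K438.TorBoth
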