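import Groth.Agent.GIT.K438.TorBoth

/-!
# Torelli in both directions, for the homomorphism attached to a theta line bundle: the two directions
-/

set_option autoImplicit false
set_option linter.unusedSectionVars false
universe u
open CategoryTheory CategoryTheory.Limits AlgebraicGeometry MonoidalCategory CartesianMonoidalCategory
open TopologicalSpace
open scoped MonObj

namespace K438.TorBoth

open Groth.Agent Groth.Agent.Grpsch.PicGrp Groth.Agent.Fga.RigGrp Groth.Agent.Sga7.H732.Hedge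
open Groth.Agent.Sga7.H732 K532.UnitBase K532.CurvePic K532.CurvePts K532.Dict Groth.Agent.Fga.JacSum
open Groth.Agent.Fga.JacFactor K532.Setup K532.KPts K532.Theta1 Groth.Agent.Grpsch.Cube K532
open Groth.Agent.Divis.EffCartier K532.ThetaIdeal K532.ThetaAmple Groth.Agent.Fga
open K438.JacTrans K438.LamTrans K814.MumHom K732.CubeSec K732.PicZero K732.BC

section dir

variable {k : Type u} [Field k] [IsAlgClosed k]
  {C : Scheme.{u}} [C.Over (Spec (CommRingCat.of k))] [IsProper (C ↘ Spec (CommRingCat.of k))]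
  [Smooth (C ↘ Spec (CommRingCat.of k))] [GeometricallyConnected (C ↘ Spec (CommRingCat.of k))]
  (hdim : topologicalKrullDim ↥C = 1)
  {C' : Scheme.{u}} [C'.Over (Spec (CommRingCat.of k))] [IsProper (C' ↘ Spec (CommRingCat.of k))]
  [Smooth (C' ↘ Spec (CommRingCat.of k))] [GeometricallyConnected (C' ↘ Spec (CommRingCat.of k))]
  (hdim' : topologicalKrullDim ↥C' = 1)
  {g : ℕ} (hg : Curv2.genus k C = g) (hg' : Curv2.genus k C' = g) (hg2 : 2 ≤ g)
  {J J' Jt Jt' : Over (Spec (CommRingCat.of k))} [GrpObj J] [IsCommMonObj J] [GrpObj J'] [IsCommMonObj J']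
  [GrpObj Jt] [GrpObj Jt'] [Smooth J.hom] [Smooth J'.hom]
  {ψ : (ModFun.PicDeg (C ↘ Spec (CommRingCat.of k)) 0).Hom ⊤ J}
  (hJ : Jac.IsJacobian (C ↘ Spec (CommRingCat.of k)) ⊤ J ψ)
  {ψ' : (ModFun.PicDeg (C' ↘ Spec (CommRingCat.of k)) 0).Hom ⊤ J'}
  (hJ' : Jac.IsJacobian (C' ↘ Spec (CommRingCat.of k)) ⊤ J' ψ')
  {N : C.Modules} (hN : PicF.IsInvertible N) (hNd : Curv2.deg k C N 1 = (g : ℤ) - 1)
  {N' : C'.Modules} (hN' : PicF.IsInvertible N') (hNd' : Curv2.deg k C' N' 1 = (g : ℤ) - 1)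
  {Θ : J.left.Modules} (hΘ : Jac.IsThetaLB (C ↘ Spec (CommRingCat.of k)) 0 ψ N Θ)
  {Θ' : J'.left.Modules} (hΘ' : Jac.IsThetaLB (C' ↘ Spec (CommRingCat.of k)) 0 ψ' N' Θ')
  {φ : ∀ T : Over (Spec (CommRingCat.of k)), PicF.Cl (PicF.XT J.hom T) → (T ⟶ Jt)}
  {φ' : ∀ T : Over (Spec (CommRingCat.of k)), PicF.Cl (PicF.XT J'.hom T) → (T ⟶ Jt')}
  (hD : AbDual.IsDualAV Scheme.fppfPrecoverage J Jt φ) (hD' : AbDual.IsDualAV Scheme.fppfPrecoverage J' Jt' φ')

include hdim hdim' hg hg' hg2 hJ hJ' hN hNd hN' hNd' hD in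
theorem curves_iso (e : J ≅ J') [IsMonHom e.hom] {et : Jt' ⟶ Jt} (het : AbDual.IsTranspose e.hom φ φ' et)
    (hiso : IsIso (hom φ (mk Θ hΘ.1)))
    (hlam : hom φ (mk Θ hΘ.1) = e.hom ≫ hom φ' (mk Θ' hΘ'.1) ≫ et) :
    Nonempty (Over.mk (C ↘ Spec (CommRingCat.of k)) ≅ Over.mk (C' ↘ Spec (CommRingCat.of k))) := by
  obtain ⟨hX, hp, hgi, hs, σ, hσ, ξ, h, j, hj, hψ, hbase⟩ := exists_setup hdim hJ
  obtain ⟨hX', hp', hgi', hs', σ', hσ', ξ', h', j', hj', hψ', hbase'⟩ := exists_setup hdim' hJ'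
  have h1 : hom φ (mk Θ hΘ.1) = hom φ (pull e.hom.left (mk Θ' hΘ'.1)) := by
    rw [hlam, comp_hom_comp hD e.hom het]
  obtain ⟨x, hx⟩ := exists_tr_of_hom_eq hD h1
  let _ : J.left.Over (Spec (CommRingCat.of k)) := ⟨J.hom⟩
  have hh0 : CurvePic.h k J.left 0 (mk Θ hΘ.1) = 1 :=
    ThetaH0.theta_h0 hdim hJ g hg (by omega) N hN hNd Θ hΘ
  have hint : IsIntegral J.left := GeometricallyIntegral.isIntegral_of_subsingleton J.hom
  have hei : IsIso e.hom.left := inferInstanceAs (IsIso ((Over.forget _).map e.hom))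
  have hpre : (thC ψ' N').preimage e.hom.left.continuous = (thC ψ N).preimage (Jac.transl J x).left.continuous := by
    refine preimage_eq (k := k) e.hom.left (Jac.transl J x).left (thC ψ N) (thC ψ' N') (isEff_theta hΘ)
      (isEff_theta hΘ') ?_ ?_
    · rw [← mk_theta hΘ, ← mk_theta hΘ']
      exact hx
    · rw [h_pull (k := k) (Jac.transl J x).left (Over.w (Jac.transl J x)), ← mk_theta hΘ]
      exact hh0
  obtain ⟨j₁, hj₁⟩ := exists_isAbelJacobiAt (Base.isSmoothProperCurve _ hdim) hdim hσ ψ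
  obtain ⟨j₂, hj₂⟩ := exists_isAbelJacobiAt (Base.isSmoothProperCurve _ hdim') hdim' hσ' ψ'
  have himg : e.hom.left.base '' Jac.thetaLocus (C ↘ Spec (CommRingCat.of k)) 0 ψ N =
      (Jac.transl J' (x ≫ e.hom)⁻¹).left.base ⁻¹' Jac.thetaLocus (C' ↘ Spec (CommRingCat.of k)) 0 ψ' N' := by
    refine closed_ext (isClosed_image e.hom e.inv e.hom_inv_id e.inv_hom_id isClosed_closure)
      (isClosed_closure.preimage (Jac.transl J' _).left.continuous) fun b => ?_
    have h1 : ∀ v : 𝟙_ (Over (Spec (CommRingCat.of k))) ⟶ J,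
        pa (v ≫ e.hom) ∈ Jac.thetaLocus (C' ↘ Spec (CommRingCat.of k)) 0 ψ' N' ↔
          pa (v * x) ∈ Jac.thetaLocus (C ↘ Spec (CommRingCat.of k)) 0 ψ N := by
      intro v
      have := Set.ext_iff.1 (congrArg (fun Z : Closeds J.left => (Z : Set J.left)) hpre) (pa v)
      rw [pa_comp, ← comp_transl', pa_comp]
      exact this
    have h2 := h1 ((b ≫ e.inv) * x⁻¹)
    rw [inv_mul_cancel_right, MonObj.mul_comp, GrpObj.inv_comp, Category.assoc, e.inv_hom_id, Category.comp_id,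
      ← comp_transl', pa_comp] at h2
    have h3 : pa b ∈ e.hom.left.base '' Jac.thetaLocus (C ↘ Spec (CommRingCat.of k)) 0 ψ N ↔
        pa (b ≫ e.inv) ∈ Jac.thetaLocus (C ↘ Spec (CommRingCat.of k)) 0 ψ N :=
      pa_mem_image_iff e.hom e.inv e.hom_inv_id e.inv_hom_id _ b
    exact h3.trans h2.symm
  obtain ⟨α, hα, -⟩ := K531.TorMain.main k C hdim C' hdim' g hg hg' hg2 σ hσ σ' hσ' J ψ hJ J' ψ' hJ' j₁ hj₁ j₂ hj₂
    N hN hNd N' hN' hNd' e (x ≫ e.hom)⁻¹ himg
  exact ⟨Over.isoMk α hα⟩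

include hdim hdim' hg hg' hg2 hJ hJ' hN hNd hN' hNd' hD hD' in
theorem exists_iso_of_curves_iso (a : Over.mk (C ↘ Spec (CommRingCat.of k)) ≅ Over.mk (C' ↘ Spec (CommRingCat.of k))) :
    ∃ (e : J ≅ J') (_ : IsMonHom e.hom) (et : Jt' ⟶ Jt) (_ : IsMonHom et), IsIso et ∧
      AbDual.IsTranspose e.hom φ φ' et ∧ hom φ (mk Θ hΘ.1) = e.hom ≫ hom φ' (mk Θ' hΘ'.1) ≫ et := by
  obtain ⟨hX, hp, hgi, hs, σ, hσ, ξ, h, j, hj, hψ, hbase⟩ := exists_setup hdim hJ
  have hX' : IsCurve k C' := K531.H1Drop.isCurve_of k C' hdim'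
  have hs' : SmoothOfRelativeDimension 1 (C' ↘ Spec (CommRingCat.of k)) := JacAlg.smoothOfRelDim hX'.curve
  have hσ' : (σ ≫ a.hom.left) ≫ (C' ↘ Spec (CommRingCat.of k)) = 𝟙 (Spec (CommRingCat.of k)) := by
    rw [Category.assoc]
    have := Over.w a.hom
    exact (congrArg (σ ≫ ·) this).trans hσ
  obtain ⟨ξ', h', hψ', hp', hgi'⟩ := K532.Setup.exists_isJac Sga7.H780.JK.jk hdim' _ hσ' hJ'
  obtain ⟨j', hj'⟩ := Abel.exists_abel h' (Base.isSmoothProperCurve _ hdim')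
  have hj'' : IsAbel h' j' := hj'
  have h'' : IsJac (C ↘ Spec (CommRingCat.of k)) σ hσ J' (pull (bm a J') ξ') := isJac_bm a rfl h'
  obtain ⟨e, he, heξ⟩ := exists_iso_isJac h h''
  obtain ⟨ga, hga⟩ : ∃ ga : C ⟶ C', ga = a.hom.left := ⟨_, rfl⟩
  obtain ⟨gi, hgi⟩ : ∃ gi : C' ⟶ C, gi = a.inv.left := ⟨_, rfl⟩
  have hinv : ga ≫ gi = 𝟙 C := by
    rw [hga, hgi]
    exact congrArg (fun q => q.left) a.hom_inv_id
  have hinv' : gi ≫ ga = 𝟙 C' := by
    rw [hga, hgi]
    exact congrArg (fun q => q.left) a.inv_hom_id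
  have hai : IsIso ga := ⟨gi, hinv, hinv'⟩
  have haii : IsIso gi := ⟨ga, hinv', hinv⟩
  have haw : ga ≫ (C' ↘ Spec (CommRingCat.of k)) = C ↘ Spec (CommRingCat.of k) := by
    rw [hga]
    exact Over.w a.hom
  have hawi : gi ≫ (C ↘ Spec (CommRingCat.of k)) = C' ↘ Spec (CommRingCat.of k) := by
    rw [hgi]
    exact Over.w a.inv
  -- comparison of classes
  have hui : ui (C ↘ Spec (CommRingCat.of k)) ≫ bm a (𝟙_ _) = ga ≫ ui (C' ↘ Spec (CommRingCat.of k)) := by
    apply pullback.hom_ext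
    · rw [Category.assoc, Category.assoc, ui_fst, Category.comp_id]
      refine (congrArg (ui (C ↘ Spec (CommRingCat.of k)) ≫ ·) (K732.PicZero.bcMap_fst a.hom (𝟙_ _))).trans ?_
      refine (Category.assoc _ _ _).symm.trans ?_
      refine (congrArg (· ≫ a.hom.left) (ui_fst (C ↘ Spec (CommRingCat.of k)))).trans ?_
      exact (Category.id_comp _).trans hga.symm
    · rw [Category.assoc, Category.assoc]
      refine (congrArg (ui (C ↘ Spec (CommRingCat.of k)) ≫ ·) (K732.PicZero.bcMap_XTproj a.hom (𝟙_ _))).trans ?_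
      refine (ui_proj (C ↘ Spec (CommRingCat.of k))).trans ?_
      exact haw.symm.trans (congrArg (ga ≫ ·) (ui_proj (C' ↘ Spec (CommRingCat.of k))).symm)
  have hk : ∀ x : 𝟙_ (Over (Spec (CommRingCat.of k))) ⟶ J, kcl h x = pull ga (kcl h' (x ≫ e.hom)) := by
    intro x
    have h1 : pull (PicF.XTmap (C ↘ Spec (CommRingCat.of k)) x) ξ =
        pull (bm a (𝟙_ _)) (pull (PicF.XTmap (C' ↘ Spec (CommRingCat.of k)) (x ≫ e.hom)) ξ') := by
      rw [pull_bm_XTmap, XTmap_comp, pull_comp, heξ]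
    rw [kcl_apply, kcl_apply, Abel.cls_apply, Abel.cls_apply, h1, ← pull_comp, hui, pull_comp]
  -- degrees
  have hgk : gen k C = g := hg
  have hgk' : gen k C' = g := hg'
  have hdN : deg k C (mk N hN) = (gen k C : ℤ) - 1 := by rw [deg_mk k C hdim, hNd, hgk]
  have hdN' : deg k C' (mk N' hN') = (gen k C' : ℤ) - 1 := by rw [deg_mk k C' hdim', hNd', hgk']
  obtain ⟨y, hy⟩ := exists_kcl hX' h' (c := pull gi (mk N hN) * (mk N' hN')⁻¹) (by
    rw [deg_mul hX', deg_inv hX', deg_pull hX' hX gi hawi, hdN, hdN', hgk, hgk']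
    ring)
  -- theta loci
  have hth : ∀ x : 𝟙_ (Over (Spec (CommRingCat.of k))) ⟶ J,
      pa x ∈ Jac.thetaLocus (C ↘ Spec (CommRingCat.of k)) 0 ψ N ↔
        pa (x ≫ e.hom ≫ Jac.transl J' y) ∈ Jac.thetaLocus (C' ↘ Spec (CommRingCat.of k)) 0 ψ' N' := by
    intro x
    rw [K531.TorMain.mem_theta hX h hψ hj hN hdN (by omega), ← Category.assoc, comp_transl',
      K531.TorMain.mem_theta hX' h' hψ' hj'' hN' hdN' (by omega), map_mul, hy, hk]
    have h1 : mk N hN = pull ga (pull gi (mk N hN)) := by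
      rw [← pull_comp, hinv, pull_id]
    have h2 : CurvePic.h k C 0 (pull ga (kcl h' (x ≫ e.hom)) * mk N hN) =
        CurvePic.h k C' 0 (kcl h' (x ≫ e.hom) * pull gi (mk N hN)) := by
      rw [← h_pull ga haw, map_mul, ← h1]
    rw [h2, _root_.mul_assoc, _root_.mul_assoc, inv_mul_cancel, _root_.mul_one]
  have hti : IsIso (e.hom ≫ Jac.transl J' y).left := by
    have h1 : IsIso e.hom.left := inferInstanceAs (IsIso ((Over.forget _).map e.hom))
    rw [Over.comp_left]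
    infer_instance
  have hpre : (thC ψ' N').preimage (e.hom ≫ Jac.transl J' y).left.continuous = thC ψ N := by
    apply Closeds.ext
    refine closed_ext (isClosed_closure.preimage (e.hom ≫ Jac.transl J' y).left.continuous) isClosed_closure
      fun b => ?_
    have h5 := hth b
    rw [pa_comp b (e.hom ≫ Jac.transl J' y)] at h5
    exact h5.symm
  have hcls : mk Θ hΘ.1 = pull e.hom.left (pl (Jac.transl J' y) (mk Θ' hΘ'.1)) := by
    rw [← pull_comp, ← Over.comp_left, mk_theta hΘ, mk_theta hΘ']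
    exact (pull_inv_dcl (e.hom ≫ Jac.transl J' y).left (thC ψ N) (thC ψ' N') (isEff_theta hΘ) (isEff_theta hΘ')
      hpre).symm
  -- duals
  have hF : ∀ T : Over (Spec (CommRingCat.of k)), Function.Bijective (PicF.XTproj J.hom T).appTop :=
    bijective_XTproj J.hom
  have hF' : ∀ T : Over (Spec (CommRingCat.of k)), Function.Bijective (PicF.XTproj J'.hom T).appTop :=
    bijective_XTproj J'.hom
  obtain ⟨et, het⟩ := K732.Transp.exists_isTranspose hD hD' hF' e.hom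
  obtain ⟨eti, heti⟩ := K732.Transp.exists_isTranspose hD' hD hF e.inv
  have h1 : et ≫ eti = 𝟙 Jt' := by
    refine K732.Transp.isTranspose_unique hD' hF' (K732.Transp.isTranspose_comp heti het) ?_
    rw [e.inv_hom_id]
    exact K732.Transp.isTranspose_id
  have h2 : eti ≫ et = 𝟙 Jt := by
    refine K732.Transp.isTranspose_unique hD hF (K732.Transp.isTranspose_comp het heti) ?_
    rw [e.hom_inv_id]
    exact K732.Transp.isTranspose_id
  refine ⟨e, he, et, K732.Transp.isMonHom_of_isTranspose hD hD' hF' het, ⟨eti, h1, h2⟩, het, ?_⟩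
  have h3 : hom φ' (mk Θ' hΘ'.1) = hom φ' (pl (Jac.transl J' y) (mk Θ' hΘ'.1)) := (hom_tr (mk Θ' hΘ'.1) y).symm
  rw [h3, comp_hom_comp hD e.hom het, ← hcls]

end dir

end K438.TorBoth
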